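import Groth.Agent.Lib.Unram.AtPrime
import Groth.Agent.Lib.Unram.StalkTower
import Groth.Agent.Lib.GenFinite.Regular
import Groth.Agent.Lib.SourceDescent.Ring
import Groth.Prelude.Def_Pi1X

/-!
# Étaleness at a point from a flat local point; the étale locus
-/

set_option autoImplicit false
universe u

open CategoryTheory CategoryTheory.Limits AlgebraicGeometry IsLocalRing

namespace Groth.Agent.H34.Comparison

/-- The étale locus is étale over the base. -/
theorem etale_etaleLocus {X Y : Scheme.{u}} (g : X ⟶ Y) : Etale ((Pi1X.etaleLocus g).ι ≫ g) := by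
  refine IsZariskiLocalAtSource.of_iSup_eq_top (P := @Etale)
    (fun U : {U : X.Opens | Etale (U.ι ≫ g)} => (Pi1X.etaleLocus g).ι ⁻¹ᵁ U.1) ?_ fun ⟨U, hU⟩ => ?_
  · refine eq_top_iff.2 fun x _ => ?_
    obtain ⟨U, hU, hxU⟩ := TopologicalSpace.Opens.mem_sSup.1 x.2
    exact TopologicalSpace.Opens.mem_iSup.2 ⟨⟨U, hU⟩, hxU⟩
  · have hU' : Etale (U.ι ≫ g) := hU
    have h := (isPullback_morphismRestrict (Pi1X.etaleLocus g).ι U).w
    rw [← Category.assoc, ← h, Category.assoc]
    infer_instance

/-- A finite morphism is étale at a point through which it has a flat local point over an unramified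
local point of the base. -/
theorem exists_etale_nhd_of_point {N S : Scheme.{u}} (m : N ⟶ S) [IsFinite m]
    [LocallyOfFinitePresentation m] {T : Type u} [CommRing T] [IsLocalRing T]
    (ε : Spec (CommRingCat.of T) ⟶ N) [Flat ε] (s : S) (φ : S.presheaf.stalk s ⟶ CommRingCat.of T)
    (hφ : Spec.map φ ≫ S.fromSpecStalk s = ε ≫ m) (hms : m (ε (closedPoint T)) = s)
    [IsLocalHom φ.hom] (hflat : φ.hom.Flat)
    (hmax : (maximalIdeal (S.presheaf.stalk s)).map φ.hom = maximalIdeal T)
    (hsep : letI := (ResidueField.map φ.hom).toAlgebra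
      Algebra.IsSeparable (ResidueField (S.presheaf.stalk s)) (ResidueField T)) :
    ∃ U : N.Opens, ε (closedPoint T) ∈ U ∧ Etale (U.ι ≫ m) := by
  subst hms
  let x := ε (closedPoint T)
  let θ : N.presheaf.stalk x ⟶ CommRingCat.of T := Scheme.stalkClosedPointTo ε
  have hθ : m.stalkMap x ≫ θ = φ := by
    refine Spec.map_injective ((cancel_mono (S.fromSpecStalk (m x))).1 ?_)
    rw [hφ, Spec.map_comp, Category.assoc, Scheme.SpecMap_stalkMap_fromSpecStalk, ← Category.assoc,
      Scheme.Spec_stalkClosedPointTo_fromSpecStalk]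
  have hθ' : θ.hom.comp (m.stalkMap x).hom = φ.hom := by rw [← hθ]; rfl
  have hθflat : θ.hom.Flat :=
    RingHom.Flat.comp (Flat.stalkMap ε (closedPoint T))
      (RingHom.Flat.of_bijective (ConcreteCategory.bijective_of_isIso (stalkClosedPointIso (CommRingCat.of T)).hom))
  haveI hθloc : IsLocalHom θ.hom := inferInstanceAs (IsLocalHom (Scheme.stalkClosedPointTo ε).hom)
  letI : Algebra (N.presheaf.stalk x) T := θ.hom.toAlgebra
  letI : Algebra (S.presheaf.stalk (m x)) (N.presheaf.stalk x) := (m.stalkMap x).hom.toAlgebra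
  letI : Algebra (S.presheaf.stalk (m x)) T := φ.hom.toAlgebra
  haveI : IsScalarTower (S.presheaf.stalk (m x)) (N.presheaf.stalk x) T :=
    IsScalarTower.of_algebraMap_eq' hθ'.symm
  haveI : Module.Flat (N.presheaf.stalk x) T := hθflat
  haveI : IsLocalHom (algebraMap (N.presheaf.stalk x) T) := hθloc
  haveI : IsLocalHom (algebraMap (S.presheaf.stalk (m x)) T) := ‹IsLocalHom φ.hom›
  haveI : IsLocalHom (algebraMap (S.presheaf.stalk (m x)) (N.presheaf.stalk x)) :=
    inferInstanceAs <| IsLocalHom (m.stalkMap x).hom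
  haveI : Module.FaithfullyFlat (N.presheaf.stalk x) T := Module.FaithfullyFlat.of_flat_of_isLocalHom
  haveI : Module.Flat (S.presheaf.stalk (m x)) T := hflat
  refine (Groth.Agent.Lib.Unram.AtPrime.exists_etale_nhd_iff m x).2
    ⟨Groth.Agent.Lib.SourceDescent.Ring.flat_of_comp _ (N.presheaf.stalk x) T,
      (Groth.Agent.Lib.Unram.StalkTower.formallyUnramified_stalkMap_iff m x).2 ⟨?_, ?_⟩⟩
  · refine le_antisymm (Ideal.map_le_iff_le_comap.2 fun z hz hu => hz ((isUnit_map_iff (m.stalkMap x).hom z).1 hu)) fun z hz => ?_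
    have h1 : θ.hom z ∈ maximalIdeal T := fun hu => hz ((isUnit_map_iff θ.hom z).1 hu)
    rw [← hmax, ← hθ', ← Ideal.map_map] at h1
    have h2 := Ideal.comap_map_eq_self_of_faithfullyFlat (B := T)
      ((maximalIdeal (S.presheaf.stalk (m x))).map (m.stalkMap x).hom)
    rw [← h2]
    exact h1
  · refine ⟨Groth.Agent.Lib.GenFinite.Regular.residueFieldMap_finite m x (m.quasiFiniteAt x), ?_⟩
    let K := ResidueField (S.presheaf.stalk (m x))
    let L := ResidueField (N.presheaf.stalk x)
    letI : Algebra K L := (m.residueFieldMap x).hom.toAlgebra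
    letI : Algebra L (ResidueField T) := (ResidueField.map θ.hom).toAlgebra
    letI : Algebra K (ResidueField T) := (ResidueField.map φ.hom).toAlgebra
    haveI : IsScalarTower K L (ResidueField T) := IsScalarTower.of_algebraMap_eq fun z => by
      obtain ⟨z, rfl⟩ := residue_surjective z
      show ResidueField.map φ.hom (residue _ z) = ResidueField.map θ.hom ((m.residueFieldMap x).hom (residue _ z))
      rw [ResidueField.map_residue, ← hθ']
      rfl
    haveI : Algebra.IsSeparable K (ResidueField T) := hsep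
    exact Algebra.isSeparable_tower_bot_of_isSeparable K L (ResidueField T)

end Groth.Agent.H34.Comparison
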