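import Groth.Agent.H34.Comparison.Tools
import Groth.Agent.H34.Stein.Connected
import Groth.Agent.H34.Stein.EtaleFactor

/-!
# A split étale fibre trivialises the comparison with the Stein factor
-/

set_option autoImplicit false
universe u

open CategoryTheory CategoryTheory.Limits AlgebraicGeometry TopologicalSpace Topology IsLocalRing
open Groth.Agent.H2.Rigid Groth.Agent.Lib.Henselian.StrictHenselization

namespace Groth.Agent.H34.Comparison

/-- The strictly henselian point of `S` at `s`. -/
noncomputable abbrev shPoint (S : Scheme.{u}) (s : S) :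
    Spec (CommRingCat.of (StrictHenselization (S.presheaf.stalk s))) ⟶ S :=
  Spec.map (CommRingCat.ofHom (algebraMap (S.presheaf.stalk s)
    (StrictHenselization (S.presheaf.stalk s)))) ≫ S.fromSpecStalk s

theorem flat_shPoint (S : Scheme.{u}) (s : S) : Flat (shPoint S s) := by
  haveI : Flat (Spec.map (CommRingCat.ofHom (algebraMap (S.presheaf.stalk s)
      (StrictHenselization (S.presheaf.stalk s))))) :=
    (HasRingHomProperty.Spec_iff (P := @Flat)).2 (RingHom.flat_algebraMap_iff.2
      (Groth.Agent.Lib.Henselian.StrictHenselization.flat (S.presheaf.stalk s) _))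
  infer_instance

theorem shPoint_closedPoint (S : Scheme.{u}) (s : S) :
    shPoint S s (closedPoint (StrictHenselization (S.presheaf.stalk s))) = s := by
  rw [Scheme.Hom.comp_apply]
  have : (Spec.map (CommRingCat.ofHom (algebraMap (S.presheaf.stalk s)
      (StrictHenselization (S.presheaf.stalk s))))).base (closedPoint _) = closedPoint (S.presheaf.stalk s) :=
    haveI := instIsLocalHom (S.presheaf.stalk s)
    IsLocalRing.comap_closedPoint (algebraMap (S.presheaf.stalk s) (StrictHenselization (S.presheaf.stalk s)))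
  rw [this, Scheme.fromSpecStalk_closedPoint]

/-- Over the strict henselization at `s` the comparison map is trivial above a point over `s'`. -/
theorem exists_trivial_piece {X X' S N : Scheme.{u}} (f : X ⟶ S) [IsProper f]
    (hO : Push f) (g : X' ⟶ X) [IsProper g] (b : X' ⟶ N) [GeometricallyConnected b] (hb : Push b)
    (m : N ⟶ S) [IsFinite m] [GeometricallyConnected f] (c : X' ⟶ pullback f m)
    (hc1 : c ≫ pullback.fst f m = g)
    (hc2 : c ≫ pullback.snd f m = b) (s : S) (s' : N) (hs' : m s' = s)
    (C : (pullback (g ≫ f) (S.fromSpecResidueField s)).Opens)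
    (hC : ∀ x : ↥(pullback (g ≫ f) (S.fromSpecResidueField s)),
      x ∈ C ↔ b.base ((pullback.fst (g ≫ f) (S.fromSpecResidueField s)).base x) = s')
    (het : ∀ x : C, (pullback.fst (g ≫ f) (S.fromSpecResidueField s)).base x.1 ∈ Pi1X.etaleLocus g)
    (hF : IsFinite (C.ι ≫ pullback.map (g ≫ f) (S.fromSpecResidueField s) f (S.fromSpecResidueField s) g (𝟙 _) (𝟙 S)
        (Category.comp_id _) ((Category.comp_id _).trans (Category.id_comp _).symm)))
    (hE : Etale (C.ι ≫ pullback.map (g ≫ f) (S.fromSpecResidueField s) f (S.fromSpecResidueField s) g (𝟙 _) (𝟙 S)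
        (Category.comp_id _) ((Category.comp_id _).trans (Category.id_comp _).symm)))
    (hsplit : Pi1.IsSplit ((FEt.restrict (pullback.fst (pullback.snd f (S.fromSpecResidueField s))
            (Spec.map (CommRingCat.ofHom (algebraMap (S.residueField s) (AlgebraicClosure (S.residueField s))))))).obj
            (MorphismProperty.Over.mk ⊤ (C.ι ≫ pullback.map (g ≫ f) (S.fromSpecResidueField s) f (S.fromSpecResidueField s) g (𝟙 _) (𝟙 S)
        (Category.comp_id _) ((Category.comp_id _).trans (Category.id_comp _).symm)) ⟨hF, hE⟩))) :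
    ∃ ε : Spec (CommRingCat.of (StrictHenselization (S.presheaf.stalk s))) ⟶ N, Flat ε ∧
      ε ≫ m = shPoint S s ∧ ε (closedPoint _) = s' ∧
      IsIso (pullback.snd c (pullback.fst (pullback.snd f m) ε)) := by
  classical
  haveI : IsProper b := by
    haveI : IsProper (b ≫ m) := by
      have h' : IsProper (g ≫ f) := inferInstance
      rw [← hc2, Category.assoc, ← pullback.condition, reassoc_of% hc1]; exact h'
    exact IsProper.of_comp b m
  have hbm : b ≫ m = g ≫ f := by rw [← hc2, Category.assoc, ← pullback.condition, reassoc_of% hc1]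
  let A := S.presheaf.stalk s
  let T := StrictHenselization A
  let φ := shPoint S s
  haveI : Flat φ := flat_shPoint S s
  haveI : IsSepClosed (ResidueField T) := by
    haveI : IsSepClosed (SK A) := IsSepClosure.sep_closed (ResidueField A)
    exact isSepClosed_of_ringEquiv (residueEquiv A).symm
  let νN := pullback.fst m φ
  let mT := pullback.snd m φ
  let ξ := pullback.fst f φ
  let fT := pullback.snd f φ
  let β' := pullback.fst b νN
  let bT := pullback.snd b νN
  have hsqN : IsPullback β' (bT ≫ mT) (g ≫ f) φ :=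
    hbm ▸ (IsPullback.of_hasPullback b νN).paste_vert (IsPullback.of_hasPullback m φ)
  let gT : pullback b νN ⟶ pullback f φ :=
    pullback.lift (β' ≫ g) (bT ≫ mT) (by rw [Category.assoc]; exact hsqN.w)
  have hgTf : gT ≫ fT = bT ≫ mT := pullback.lift_snd _ _ _
  have hgTξ : gT ≫ ξ = β' ≫ g := pullback.lift_fst _ _ _
  have hgT : IsPullback β' gT g ξ := by
    refine IsPullback.of_bot ?_ (pullback.lift_fst _ _ _).symm (IsPullback.of_hasPullback f φ)
    rw [pullback.lift_snd]
    exact hsqN
  have hfT : Push fT := Stein.push_flat_baseChange (IsPullback.of_hasPullback f φ) hO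
  have hbT : Push bT := Stein.push_flat_baseChange (IsPullback.of_hasPullback b νN) hb
  -- the point over `s'` and its open and closed neighbourhood
  obtain ⟨t, ht1, ht2⟩ := Scheme.Pullback.exists_preimage_pullback (f := m) (g := φ) s'
    (closedPoint T) (hs'.trans (shPoint_closedPoint S s).symm)
  obtain ⟨W, hWc, htW, hWu⟩ := exists_clopen_nhd mT t ht2
  haveI : IsClosedImmersion W.ι := IsClosedImmersion.of_isPreimmersion _ (by
    rw [Scheme.Opens.range_ι]; exact hWc)
  haveI : IsClosedImmersion (bT ⁻¹ᵁ W).ι := IsClosedImmersion.of_isPreimmersion _ (by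
    rw [Scheme.Opens.range_ι]; exact hWc.preimage bT.continuous)
  let ιW := (bT ⁻¹ᵁ W).ι
  let gW := ιW ≫ gT
  haveI : IsProper gT := MorphismProperty.of_isPullback hgT inferInstance
  haveI : IsProper gW := inferInstanceAs (IsProper (_ ≫ _))
  let a := gW ≫ fT
  have ha : a = (bT ∣_ W) ≫ W.ι ≫ mT := by
    rw [morphismRestrict_ι_assoc]
    simp only [a, gW, Category.assoc, hgTf]
    rfl
  haveI : IsProper a := inferInstanceAs (IsProper (_ ≫ _))
  -- the points of the closed fibre of `a` lie over `t`
  have hat : ∀ z, a z = closedPoint T → bT (ιW z) = t := fun z hz => by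
    refine hWu _ z.2 ?_
    rw [← Scheme.Hom.comp_apply, ← Scheme.Hom.comp_apply]
    have : (ιW ≫ bT ≫ mT) = a := by simp only [a, gW, Category.assoc, hgTf]
    rw [this]; exact hz
  -- the piece is étale
  let ιs := S.fromSpecResidueField s
  let p' := pullback.fst (g ≫ f) ιs
  have hmemC : ∀ x : X', b x = s' → ∃ z : C, p' z.1 = x := fun x hx => by
    obtain ⟨z, hz, -⟩ := Scheme.Pullback.exists_preimage_pullback (f := g ≫ f) (g := ιs) x
      (closedPoint (S.residueField s)) (by
        rw [← hbm, Scheme.Hom.comp_apply, hx, hs']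
        exact (S.fromSpecResidueField_apply s _).symm)
    exact ⟨⟨z, (hC z).2 (by rw [show p'.base z = x from hz]; exact hx)⟩, hz⟩
  have hbt : ∀ z, a z = closedPoint T → b (β' (ιW z)) = s' := fun z hz => by
    rw [← Scheme.Hom.comp_apply, pullback.condition, Scheme.Hom.comp_apply, hat z hz]
    exact ht1
  let O := Pi1X.etaleLocus g
  have hO' : ∀ z, β' (ιW z) ∈ O := by
    have h := eq_top_of_closedFibre a (ιW ⁻¹ᵁ (β' ⁻¹ᵁ O)) fun z hz => by
      obtain ⟨w, hw⟩ := hmemC _ (hbt z hz)
      show β' (ιW z) ∈ O
      rw [← hw]; exact het w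
    exact fun z => h.ge (Set.mem_univ z)
  haveI : Etale gW := by
    let u := IsOpenImmersion.lift O.ι (ιW ≫ β') (by
      rw [Scheme.Opens.range_ι]; rintro _ ⟨z, rfl⟩; exact hO' z)
    have hu : u ≫ O.ι = ιW ≫ β' := IsOpenImmersion.lift_fac _ _ _
    haveI : Etale (O.ι ≫ g) := etale_etaleLocus g
    let w : (bT ⁻¹ᵁ W).toScheme ⟶ pullback (O.ι ≫ g) ξ :=
      pullback.lift u gW (by rw [reassoc_of% hu]; simp [gW, hgT.w])
    have hw : w ≫ pullback.snd (O.ι ≫ g) ξ = gW := pullback.lift_snd _ _ _
    let k : pullback (O.ι ≫ g) ξ ⟶ pullback b νN :=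
      hgT.lift (pullback.fst _ _ ≫ O.ι) (pullback.snd _ _) (by simp [pullback.condition])
    have hk : IsPullback (pullback.fst (O.ι ≫ g) ξ) k O.ι β' := by
      refine IsPullback.of_bot ?_ (hgT.lift_fst _ _ _).symm hgT
      rw [hgT.lift_snd]
      exact IsPullback.of_hasPullback (O.ι ≫ g) ξ
    haveI : IsOpenImmersion k := MorphismProperty.of_isPullback hk inferInstance
    have hwk : w ≫ k = ιW := hgT.hom_ext
      (by rw [Category.assoc, hgT.lift_fst, pullback.lift_fst_assoc, hu])
      (by rw [Category.assoc, hgT.lift_snd, pullback.lift_snd])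
    haveI : IsOpenImmersion (w ≫ k) := by rw [hwk]; infer_instance
    haveI : IsOpenImmersion w := IsOpenImmersion.of_comp w k
    rw [← hw]
    infer_instance
  haveI : LocallyQuasiFinite gW := Groth.Agent.Lib.Henselian.DescendSection.locallyQuasiFinite_of_etale gW
  haveI : IsFinite gW := IsFinite.of_isProper_of_locallyQuasiFinite gW
  -- the geometric fibre
  let k := IsLocalRing.ResidueField A
  let β : Spec (CommRingCat.of (AlgebraicClosure (S.residueField s))) ⟶ Spec (S.residueField s) :=
    Spec.map (CommRingCat.ofHom (algebraMap (S.residueField s) (AlgebraicClosure (S.residueField s))))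
  let pr := pullback.fst (pullback.snd f ιs) β
  let π := pullback.snd (pullback.snd f ιs) β
  letI : Algebra k (AlgebraicClosure (S.residueField s)) :=
    (algebraMap (S.residueField s) (AlgebraicClosure (S.residueField s))).toAlgebra
  let j0 : SK A →ₐ[k] AlgebraicClosure (S.residueField s) := IsAlgClosed.lift
  let lam : Spec (CommRingCat.of (AlgebraicClosure (S.residueField s))) ⟶ Spec (CommRingCat.of T) :=
    Spec.map (CommRingCat.ofHom (j0.toRingHom.comp
      (Groth.Agent.Lib.Henselian.Pointed.Lim.α A (SK A)).toRingHom))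
  have hlam : lam ≫ φ = β ≫ ιs := by
    simp only [lam, φ, β, ιs, shPoint, Scheme.fromSpecResidueField, ← Spec.map_comp_assoc]
    congr 2
    refine CommRingCat.hom_ext (RingHom.ext fun r => ?_)
    show j0 (Groth.Agent.Lib.Henselian.Pointed.Lim.α A (SK A) (algebraMap A T r)) = _
    rw [AlgHom.commutes, algebraMap_SK, RingHom.comp_apply, AlgHom.commutes]
    rfl
  have hlam0 : lam default = closedPoint T := by
    haveI : IsLocalHom (Groth.Agent.Lib.Henselian.Pointed.Lim.α A (SK A)).toRingHom :=
      instIsLocalHomRingα A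
    haveI : IsLocalHom j0.toRingHom := ⟨fun x hx => isUnit_iff_ne_zero.2 fun h => by
      subst h; simp at hx⟩
    rw [Subsingleton.elim (default : Spec (CommRingCat.of (AlgebraicClosure (S.residueField s))))
      (closedPoint (AlgebraicClosure (S.residueField s)))]
    haveI : IsLocalHom (j0.toRingHom.comp (Groth.Agent.Lib.Henselian.Pointed.Lim.α A (SK A)).toRingHom) :=
      RingHom.isLocalHom_comp _ _
    exact IsLocalRing.comap_closedPoint (j0.toRingHom.comp (Groth.Agent.Lib.Henselian.Pointed.Lim.α A (SK A)).toRingHom)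
  have hXk : IsPullback (pr ≫ pullback.fst f ιs) π f (β ≫ ιs) :=
    (IsPullback.of_hasPullback (pullback.snd f ιs) β).paste_horiz (IsPullback.of_hasPullback f ιs)
  let μ : pullback (pullback.snd f ιs) β ⟶ pullback f φ :=
    pullback.lift (pr ≫ pullback.fst f ιs) (π ≫ lam) (by rw [Category.assoc π, hlam]; exact hXk.w)
  have hμ : IsPullback μ π fT lam := by
    refine IsPullback.of_right ?_ (pullback.lift_snd _ _ _) (IsPullback.of_hasPullback f φ)
    rw [pullback.lift_fst, hlam]
    exact hXk
  haveI : GeometricallyConnected π := inferInstance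
  haveI : ConnectedSpace ↥(pullback (pullback.snd f ιs) β) :=
    GeometricallyConnected.geometrically_connectedSpace _ _ _ (.of_hasPullback _ _)
  let D := pullback gW μ
  haveI : ConnectedSpace ↥D := by
    have hconn : _root_.IsConnected (a.base ⁻¹' {closedPoint T}) := by
      have hpre : a.base ⁻¹' {closedPoint T} = ιW.base ⁻¹' (bT.base ⁻¹' {t}) := by
        ext z
        refine ⟨fun hz => hat z hz, fun hz => ?_⟩
        show a z = closedPoint T
        have : a = ιW ≫ bT ≫ mT := by simp only [a, gW, Category.assoc, hgTf]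
        rw [this, Scheme.Hom.comp_apply, Scheme.Hom.comp_apply, show bT (ιW z) = t from hz]
        exact ht2
      rw [hpre]
      have himg : ιW.base '' (ιW.base ⁻¹' (bT.base ⁻¹' {t})) = bT.base ⁻¹' {t} := by
        refine Set.image_preimage_eq_of_subset fun z hz => ?_
        rw [Scheme.Opens.range_ι]
        exact show bT z ∈ W from (show bT z = t from hz) ▸ htW
      have hc := bT.isConnected_preimage_singleton t
      rw [← himg] at hc
      exact ⟨hc.nonempty.of_image, ιW.isOpenEmbedding.isInducing.isPreconnected_image.mp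
        hc.isPreconnected⟩
    haveI := connectedSpace_pullback_closed a hconn lam hlam0
    exact ((IsPullback.of_hasPullback gW μ).flip.paste_horiz hμ.flip).flip.isoPullback.hom.homeomorph.connectedSpace_iff.mpr
      inferInstance
  -- compare with the split cover
  let mp := pullback.map (g ≫ f) ιs f ιs g (𝟙 _) (𝟙 S) (Category.comp_id _)
    ((Category.comp_id _).trans (Category.id_comp _).symm)
  let h := C.ι ≫ mp
  have hmp : IsPullback p' mp g (pullback.fst f ιs) := by
    refine IsPullback.of_bot ?_ (pullback.lift_fst _ _ _).symm (IsPullback.of_hasPullback f ιs)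
    rw [pullback.lift_snd, Category.comp_id]
    exact IsPullback.of_hasPullback (g ≫ f) ιs
  let q : D ⟶ pullback (g ≫ f) ιs :=
    hmp.lift (pullback.fst gW μ ≫ ιW ≫ β') (pullback.snd gW μ ≫ pr) (by
      have h1 : μ ≫ ξ = pr ≫ pullback.fst f ιs := pullback.lift_fst _ _ _
      simp only [Category.assoc, ← h1, hgT.w]
      exact pullback.condition_assoc _)
  have hqC : Set.range q.base ⊆ C := by
    rintro _ ⟨z, rfl⟩
    refine (hC _).2 ?_
    show b (p' (q z)) = s'
    rw [← Scheme.Hom.comp_apply q p', hmp.lift_fst, Scheme.Hom.comp_apply]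
    refine hbt _ ?_
    have hπ : pullback.fst gW μ ≫ a = pullback.snd gW μ ≫ π ≫ lam := by
      rw [← hμ.w, pullback.condition_assoc]
    rw [← Scheme.Hom.comp_apply, hπ, Scheme.Hom.comp_apply, Scheme.Hom.comp_apply,
      Subsingleton.elim (π _) default]
    exact hlam0
  let qC := IsOpenImmersion.lift C.ι q (by rwa [Scheme.Opens.range_ι])
  have hqC' : qC ≫ C.ι = q := IsOpenImmersion.lift_fac _ _ _
  let j : D ⟶ pullback h pr := pullback.lift qC (pullback.snd gW μ) (by
    show qC ≫ C.ι ≫ mp = _
    rw [reassoc_of% hqC', hmp.lift_snd])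
  have hj : j ≫ pullback.snd h pr = pullback.snd gW μ := pullback.lift_snd _ _ _
  haveI : Mono j := by
    refine ⟨fun {Z} u v huv => pullback.hom_ext ?_ ?_⟩
    · rw [← cancel_mono ιW]
      refine hgT.hom_ext ?_ ?_
      · have := huv =≫ (pullback.fst h pr ≫ C.ι ≫ p')
        simp only [Category.assoc, j, pullback.lift_fst_assoc, reassoc_of% hqC', q, hmp.lift_fst] at this
        simpa using this
      · have := huv =≫ (pullback.snd h pr ≫ μ)
        simp only [Category.assoc, reassoc_of% hj, ← pullback.condition] at this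
        simpa [gW] using this
    · have := huv =≫ pullback.snd h pr
      simpa [Category.assoc, hj] using this
  haveI : IsFinite h := hF
  haveI : Etale h := hE
  haveI : Etale j := MorphismProperty.of_postcomp @Etale (W' := @Etale) j (pullback.snd h pr)
    inferInstance (by rw [hj]; infer_instance)
  haveI : IsOpenImmersion j := IsOpenImmersion.of_flat_of_mono j
  haveI : IsProper j := by
    haveI : IsProper (j ≫ pullback.snd h pr) := by rw [hj]; infer_instance
    exact IsProper.of_comp j (pullback.snd h pr)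
  have hiso : IsIso (pullback.snd gW μ) := by
    rw [← hj]
    exact @isIso_of_isSplit _ D _ _ ((FEt.restrict pr).obj (MorphismProperty.Over.mk ⊤ h ⟨hF, hE⟩))
      hsplit j ‹IsOpenImmersion j› j.isClosedMap.isClosed_range
  -- rank one everywhere
  haveI hgiso : IsIso gW := by
    haveI : LocallyOfFinitePresentation gW := inferInstance
    rw [Scheme.Hom.isIso_iff_finrank_eq]
    funext z
    obtain ⟨z', hzz', hz'⟩ : ∃ z', z ⤳ z' ∧ fT z' = closedPoint T := by
      have hm : closedPoint T ∈ fT.base '' closure {z} :=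
        (specializes_closedPoint (fT z)).mem_closed (fT.isClosedMap _ isClosed_closure)
          ⟨z, subset_closure rfl, rfl⟩
      obtain ⟨x, hx, hxs⟩ := hm
      exact ⟨x, specializes_iff_mem_closure.2 hx, hxs⟩
    have hlc := (Scheme.Hom.isLocallyConstant_finrank gW)
    have heq : Scheme.Hom.finrank gW z = Scheme.Hom.finrank gW z' :=
      (hzz'.map hlc.continuous).eq
    rw [heq]
    obtain ⟨w, hw, -⟩ := Scheme.Pullback.exists_preimage_pullback (f := fT) (g := lam) z' default
      (hz'.trans hlam0.symm)
    obtain ⟨w', hw'⟩ : ∃ w', μ w' = z' := ⟨hμ.isoPullback.inv w, by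
      rw [← Scheme.Hom.comp_apply, hμ.isoPullback_inv_fst]; exact hw⟩
    rw [← hw', ← Scheme.Hom.finrank_pullback_snd, Scheme.Hom.finrank_eq_one_of_isIso]
    rfl
  -- the section
  haveI : IsAffine (pullback m φ) := isAffine_of_isAffineHom mT
  haveI : IsAffine W.toScheme := isAffine_of_isAffineHom W.ι
  haveI : IsIso (W.ι ≫ mT) := by
    refine Stein.isIso_of_appTop_bijective _ ?_
    have hpa : Function.Bijective ((gW ≫ fT).appTop).hom := by
      rw [Scheme.Hom.comp_appTop]
      haveI : IsIso gW.appTop := inferInstanceAs (IsIso (gW.app ⊤))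
      exact (ConcreteCategory.bijective_of_isIso gW.appTop).comp (hfT ⊤)
    rw [show gW ≫ fT = a from rfl, ha, Scheme.Hom.comp_appTop] at hpa
    exact (Function.Bijective.of_comp_iff' (Push.restrict hbT W ⊤) _).1 hpa
  let ε := inv (W.ι ≫ mT) ≫ W.ι ≫ νN
  haveI : Flat νN := inferInstance
  refine ⟨ε, inferInstance, ?_, ?_, ?_⟩
  · simp only [ε, Category.assoc, pullback.condition, νN]
    rw [show W.ι ≫ pullback.snd m φ ≫ φ = (W.ι ≫ mT) ≫ φ from (Category.assoc _ _ _).symm, IsIso.inv_hom_id_assoc]
  · have h1 : inv (W.ι ≫ mT) (closedPoint T) = ⟨t, htW⟩ := by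
      apply (W.ι ≫ mT).homeomorph.injective
      show (W.ι ≫ mT) (inv (W.ι ≫ mT) (closedPoint T)) = (W.ι ≫ mT) ⟨t, htW⟩
      rw [← Scheme.Hom.comp_apply, IsIso.inv_hom_id]
      exact ht2.symm
    rw [Scheme.Hom.comp_apply, h1]
    exact ht1
  have hε : ε ≫ m = φ := by
    simp only [ε, Category.assoc, pullback.condition, νN]
    rw [show W.ι ≫ pullback.snd m φ ≫ φ = (W.ι ≫ mT) ≫ φ from (Category.assoc _ _ _).symm, IsIso.inv_hom_id_assoc]
  let ζ : pullback f φ ⟶ pullback f m := pullback.lift ξ (fT ≫ ε) (by
    rw [Category.assoc, hε]; exact pullback.condition)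
  have hζ : IsPullback ζ fT (pullback.snd f m) ε := by
    refine IsPullback.of_right ?_ (pullback.lift_snd _ _ _) (IsPullback.of_hasPullback f m)
    rw [pullback.lift_fst, hε]
    exact IsPullback.of_hasPullback f φ
  have hsec : (bT ∣_ W) = gW ≫ fT ≫ inv (W.ι ≫ mT) := by
    rw [← Category.assoc, IsIso.eq_comp_inv]
    exact ha.symm
  have hc : IsPullback (ιW ≫ β') gW c ζ := by
    refine IsPullback.of_bot ?_ ?_ hζ
    · rw [hc2]
      have h1 : IsPullback (ιW ≫ β') (bT ∣_ W) b (W.ι ≫ νN) :=
        (isPullback_morphismRestrict bT W).flip.paste_horiz (IsPullback.of_hasPullback b νN)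
      have h2 : IsPullback (𝟙 _) (gW ≫ fT) (bT ∣_ W) (inv (W.ι ≫ mT)) := by
        refine IsPullback.of_horiz_isIso ⟨?_⟩
        rw [Category.id_comp, hsec]
        simp only [Category.assoc]
      have h3 := h2.paste_horiz h1
      rw [Category.id_comp] at h3
      exact h3
    · refine pullback.hom_ext ?_ ?_
      · simp only [Category.assoc, hc1, ζ, pullback.lift_fst, gW, hgT.w]
      · simp only [Category.assoc, hc2, ζ, pullback.lift_snd]
        rw [pullback.condition, show ε = inv (W.ι ≫ mT) ≫ W.ι ≫ νN from rfl,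
          ← morphismRestrict_ι_assoc bT W νN]
        change (bT ∣_ W) ≫ W.ι ≫ νN = _
        rw [hsec]; simp
  let e := hζ.isoPullback
  have hc' : IsPullback (ιW ≫ β') (gW ≫ e.hom) c (pullback.fst (pullback.snd f m) ε) :=
    IsPullback.of_iso hc (Iso.refl _) (Iso.refl _) e (Iso.refl _) (by simp) (by simp) (by simp)
      (by simp [e])
  have : IsIso (hc'.isoPullback.hom ≫ pullback.snd _ _) := by
    rw [hc'.isoPullback_hom_snd]; infer_instance
  exact IsIso.of_isIso_comp_left hc'.isoPullback.hom _

end Groth.Agent.H34.Comparison
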