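import Groth.Agent.H34.Comparison.Fwd

/-!
# From a trivial piece over the strict henselization to a neighbourhood
-/

set_option autoImplicit false
universe u

open CategoryTheory CategoryTheory.Limits AlgebraicGeometry TopologicalSpace Topology IsLocalRing
open Groth.Agent.Lib.Henselian.StrictHenselization

namespace Groth.Agent.H34.Comparison

/-- If the comparison map becomes an isomorphism after a flat base change to a strictly henselian
point over `s'`, it is an isomorphism near `s'` and the Stein factor is étale there, provided `g` is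
étale at the points over `s'`. -/
theorem exists_nhd {X X' S N : Scheme.{u}} (f : X ⟶ S) [IsProper f] (g : X' ⟶ X) [IsProper g]
    (m : N ⟶ S) [IsFinite m] [LocallyOfFinitePresentation m] (c : X' ⟶ pullback f m)
    (hc1 : c ≫ pullback.fst f m = g) (s : S) (s' : N) (hs' : m s' = s)
    (het : ∀ x, pullback.snd f m (c x) = s' → x ∈ Pi1X.etaleLocus g)
    (ε : Spec (CommRingCat.of (StrictHenselization (S.presheaf.stalk s))) ⟶ N) [Flat ε]
    (hεm : ε ≫ m = shPoint S s) (hε : ε (closedPoint _) = s')
    (hiso : IsIso (pullback.snd c (pullback.fst (pullback.snd f m) ε))) :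
    ∃ U' : N.Opens, s' ∈ U' ∧ Etale (U'.ι ≫ m) ∧ IsIso (c ∣_ (pullback.snd f m ⁻¹ᵁ U')) := by
  classical
  let A := S.presheaf.stalk s
  let T := StrictHenselization A
  haveI hloc : IsLocalHom (algebraMap A T) := instIsLocalHom A
  have hsep : letI := (ResidueField.map (algebraMap A T)).toAlgebra
      Algebra.IsSeparable (ResidueField A) (ResidueField T) := by
    letI := (ResidueField.map (algebraMap A T)).toAlgebra
    have e : (ResidueField T) ≃ₐ[ResidueField A] SK A :=
      AlgEquiv.ofRingEquiv (f := residueEquiv A) fun r => by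
        obtain ⟨r, rfl⟩ := residue_surjective r
        exact (Groth.Agent.Lib.Henselian.Pointed.Lim.α A (SK A)).commutes r
    exact AlgEquiv.Algebra.isSeparable e.symm
  obtain ⟨U1, hU1, hetU1⟩ := exists_etale_nhd_of_point m ε s (CommRingCat.ofHom (algebraMap A T))
    hεm.symm (by rw [hε]; exact hs') (RingHom.flat_algebraMap_iff.2
      (Groth.Agent.Lib.Henselian.StrictHenselization.flat A T)) (map_maximalIdeal_self A) hsep
  rw [hε] at hU1
  let p2 := pullback.snd f m
  let b := c ≫ p2
  haveI : IsProper c := by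
    haveI : IsProper (c ≫ pullback.fst f m) := by rw [hc1]; infer_instance
    exact IsProper.of_comp c (pullback.fst f m)
  haveI : IsProper b := inferInstanceAs (IsProper (_ ≫ _))
  let O := Pi1X.etaleLocus g
  have hs'O : s' ∉ b.base '' (O : Set X')ᶜ := fun ⟨x, hx, hxs⟩ => hx (het x (by rw [← Scheme.Hom.comp_apply]; exact hxs))
  let U2 : N.Opens := U1 ⊓ ⟨(b.base '' (O : Set X')ᶜ)ᶜ, (b.isClosedMap _ O.2.isClosed_compl).isOpen_compl⟩
  have hs'U2 : s' ∈ U2 := ⟨hU1, hs'O⟩
  let V := p2 ⁻¹ᵁ U2
  let cV := c ∣_ V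
  haveI : IsProper cV := MorphismProperty.of_isPullback (isPullback_morphismRestrict c V).flip inferInstance
  haveI : Etale (U2.ι ≫ m) := by
    rw [← N.homOfLE_ι (inf_le_left : U2 ≤ U1), Category.assoc]; infer_instance
  haveI : Etale (V.ι ≫ pullback.fst f m) :=
    MorphismProperty.of_isPullback
      ((isPullback_morphismRestrict p2 U2).flip.paste_horiz (IsPullback.of_hasPullback f m).flip.flip).flip
      inferInstance
  haveI : Etale cV := by
    refine MorphismProperty.of_postcomp @Etale (W' := @Etale) cV (V.ι ≫ pullback.fst f m) inferInstance ?_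
    rw [morphismRestrict_ι_assoc, hc1]
    have hle : (c ⁻¹ᵁ V) ≤ O := fun x hx => by_contra fun hxO =>
      (show b x ∈ U2 from hx).2 ⟨x, hxO, rfl⟩
    haveI : Etale (O.ι ≫ g) := etale_etaleLocus g
    rw [← X'.homOfLE_ι hle, Category.assoc]
    infer_instance
  haveI : LocallyQuasiFinite cV := Groth.Agent.Lib.Henselian.DescendSection.locallyQuasiFinite_of_etale cV
  haveI : IsFinite cV := IsFinite.of_isProper_of_locallyQuasiFinite cV
  let r := Scheme.Hom.finrank cV
  have hr : IsLocallyConstant r := Scheme.Hom.isLocallyConstant_finrank cV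
  -- the rank is one over `s'`
  have hr1 : ∀ p : V, p2 p.1 = s' → r p = 1 := fun p hp => by
    let ζ := pullback.fst p2 ε
    obtain ⟨z, hz, -⟩ := Scheme.Pullback.exists_preimage_pullback (f := p2) (g := ε) p.1
      (closedPoint T) (hp.trans hε.symm)
    let Z := ζ ⁻¹ᵁ V
    let w : Z := ⟨z, show ζ z ∈ V from hz ▸ p.2⟩
    have hw : (ζ ∣_ V) w = p := by
      refine Subtype.ext ?_
      show V.ι ((ζ ∣_ V) w) = p.1
      rw [← Scheme.Hom.comp_apply, morphismRestrict_ι]
      exact hz
    let d := pullback.snd c ζ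
    haveI : IsIso d := hiso
    have h1 : IsPullback (pullback.fst c ζ) d c ζ := IsPullback.of_hasPullback c ζ
    have h2 : IsPullback ((d ⁻¹ᵁ Z).ι ≫ pullback.fst c ζ) (d ∣_ Z) c (Z.ι ≫ ζ) :=
      (isPullback_morphismRestrict d Z).flip.paste_horiz h1
    rw [← morphismRestrict_ι] at h2
    have h3 : IsPullback (pullback.snd cV (ζ ∣_ V)) (pullback.fst cV (ζ ∣_ V) ≫ (c ⁻¹ᵁ V).ι)
        ((ζ ∣_ V) ≫ V.ι) c :=
      ((IsPullback.of_hasPullback cV (ζ ∣_ V)).paste_horiz (isPullback_morphismRestrict c V).flip).flip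
    have : IsIso (pullback.snd cV (ζ ∣_ V)) := by
      have h4 := h3.flip.isoIsPullback_hom_snd _ _ h2
      rw [← h4]; infer_instance
    show Scheme.Hom.finrank cV p = 1
    rw [← hw, ← Scheme.Hom.finrank_pullback_snd, Scheme.Hom.finrank_eq_one_of_isIso]
    rfl
  let bad : Set V := {p | r p ≠ 1}
  have hbad : IsClosed bad := hr.isClosed_fiber 1 |> fun _ => (hr.isOpen_fiber 1).isClosed_compl
  let mP := p2 ∣_ U2
  haveI : IsProper mP := MorphismProperty.of_isPullback (isPullback_morphismRestrict p2 U2).flip inferInstance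
  have hrest : ∀ p : V, U2.ι (mP p) = p2 p.1 := fun p => by
    rw [← Scheme.Hom.comp_apply, morphismRestrict_ι]
    rfl
  let G : U2.toScheme.Opens := ⟨(mP.base '' bad)ᶜ, (mP.isClosedMap _ hbad).isOpen_compl⟩
  let U' : N.Opens := U2.ι ''ᵁ G
  have hU'2 : U' ≤ U2 := fun x hx => by obtain ⟨y, -, rfl⟩ := hx; exact y.2
  have hmem : ∀ p : V, p2 p.1 ∈ U' → r p = 1 := fun p hp => by
    obtain ⟨y, hy, hy'⟩ := hp
    refine by_contra fun hne => hy ⟨p, hne, ?_⟩
    refine U2.ι.isOpenEmbedding.injective ?_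
    exact (hrest p).trans hy'.symm
  refine ⟨U', ⟨⟨s', hs'U2⟩, ?_, rfl⟩, ?_, ?_⟩
  · rintro ⟨p, hp, hps⟩
    refine hp (hr1 p ?_)
    have := congrArg U2.ι.base hps
    rw [← Scheme.Hom.comp_apply, morphismRestrict_ι] at this
    exact this
  · rw [← N.homOfLE_ι hU'2, Category.assoc]; infer_instance
  · let V' := p2 ⁻¹ᵁ U'
    have hle : V' ≤ V := fun z hz => hU'2 hz
    have hcle : c ⁻¹ᵁ V' ≤ c ⁻¹ᵁ V := fun z hz => hle hz
    have h3 : IsPullback (X'.homOfLE hcle) (c ∣_ V') cV ((pullback f m).homOfLE hle) := by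
      refine IsPullback.of_right ?_ ?_ (isPullback_morphismRestrict c V).flip
      · simpa using (isPullback_morphismRestrict c V').flip
      · rw [← cancel_mono (Scheme.Opens.ι _)]; simp [cV]
    haveI : IsFinite (c ∣_ V') := MorphismProperty.of_isPullback h3 inferInstance
    haveI : Etale (c ∣_ V') := MorphismProperty.of_isPullback h3 inferInstance
    rw [Scheme.Hom.isIso_iff_finrank_eq]
    funext z
    rw [Scheme.Hom.finrank_of_isPullback _ _ _ _ h3]
    refine hmem _ ?_
    have : ((pullback f m).homOfLE hle z).1 = z.1 := by simp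
    rw [this]
    exact z.2

end Groth.Agent.H34.Comparison
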