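import Groth.Prelude.Def_Pi1
import Groth.Prelude.Def_Pi1X
import Groth.Agent.H34.Stein.Connected
import Groth.Agent.Lib.Henselian.DescendSection

/-!
# An étale Stein factor near a point gives a trivial étale cover of the fibre
-/

set_option autoImplicit false
universe u

open CategoryTheory CategoryTheory.Limits AlgebraicGeometry TopologicalSpace Topology

namespace Groth.Agent.H34.Comparison

/-- A finite étale cover with finitely many disjoint, jointly surjective open sections is split. -/
theorem isSplit_of_sections {Z : Scheme.{u}} (Y : FEt.Cat Z) {ι : Type u} [Finite ι]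
    (τ : ι → (Z ⟶ Y.left)) [∀ i, IsOpenImmersion (τ i)] (hτ : ∀ i, τ i ≫ Y.hom = 𝟙 Z)
    (hcov : ∀ y : Y.left, ∃ i z, τ i z = y)
    (hdisj : ∀ (i j : ι) (z w : Z), τ i z = τ j w → i = j) : Pi1.IsSplit Y := by
  haveI : IsOpenImmersion (Sigma.desc τ) := isOpenImmersion_sigmaDesc _ _ fun i j hij =>
    Set.disjoint_left.2 fun y ⟨z, hz⟩ ⟨w, hw⟩ => hij (hdisj i j z w (hz.trans hw.symm))
  haveI : IsIso (Sigma.desc τ) := isIso_of_isOpenImmersion_of_opensRange_eq_top _ (eq_top_iff.2 fun y _ => by
    obtain ⟨i, z, hz⟩ := hcov y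
    exact ⟨Sigma.ι (fun _ : ι => Z) i z, by rw [← Scheme.Hom.comp_apply, Sigma.ι_desc]; exact hz⟩)
  refine ⟨ι, inferInstance, (asIso (Sigma.desc τ)).symm, fun i => ?_⟩
  simp [hτ]

/-- An étale cover that is the base change of an étale scheme over an algebraically closed field is split. -/
theorem isSplit_of_isPullback {k : Type u} [Field k] [IsAlgClosed k] {Z E : Scheme.{u}} (Y : FEt.Cat Z)
    (q : Y.left ⟶ E) (e : E ⟶ Spec (CommRingCat.of k)) [Etale e] [QuasiCompact e] [IsSeparated e] (π : Z ⟶ Spec (CommRingCat.of k))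
    (hsq : IsPullback Y.hom q π e) : Pi1.IsSplit Y := by
  haveI : LocallyQuasiFinite e := Groth.Agent.Lib.Henselian.DescendSection.locallyQuasiFinite_of_etale e
  haveI : IsLocallyNoetherian E := LocallyOfFiniteType.isLocallyNoetherian e
  haveI : CompactSpace E := QuasiCompact.compactSpace_of_compactSpace e
  haveI : Finite E := by
    have : e.base ⁻¹' {default} = Set.univ := Set.eq_univ_of_forall fun z => Subsingleton.elim _ _
    exact Set.finite_univ_iff.1 (this ▸ e.finite_preimage_singleton default)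
  have hσ : ∀ z : E, ∃ σ : Spec (CommRingCat.of k) ⟶ E, σ ≫ e = 𝟙 _ ∧ σ default = z := fun z => by
    obtain ⟨φ, hφ⟩ := Spec.map_surjective (E.fromSpecResidueField z ≫ e)
    letI : Algebra k (E.residueField z) := φ.hom.toAlgebra
    haveI : LocallyQuasiFinite (E.fromSpecResidueField z ≫ e) := inferInstance
    haveI : IsFinite (E.fromSpecResidueField z ≫ e) := by
      haveI : IsClosedImmersion (E.fromSpecResidueField z) := IsClosedImmersion.of_isPreimmersion _ (by
        haveI : DiscreteTopology E := isDiscrete_univ_iff.1 (by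
          have : e.base ⁻¹' {default} = Set.univ := Set.eq_univ_of_forall fun w => Subsingleton.elim _ _
          exact this ▸ e.isDiscrete_preimage_singleton default)
        exact isClosed_discrete _)
      exact IsFinite.of_locallyQuasiFinite _
    haveI : Module.Finite k (E.residueField z) := (IsFinite.SpecMap_iff φ).1 (hφ ▸ inferInstance)
    have hb : Function.Bijective φ.hom := IsAlgClosed.algebraMap_bijective_of_isIntegral
    haveI : IsIso φ := (ConcreteCategory.isIso_iff_bijective _).2 hb
    refine ⟨inv (Spec.map φ) ≫ E.fromSpecResidueField z, ?_, ?_⟩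
    · rw [Category.assoc, ← hφ, IsIso.inv_hom_id]
    · rw [Scheme.Hom.comp_apply, E.fromSpecResidueField_apply]
  choose σ hσe hσz using hσ
  let τ : E → (Z ⟶ Y.left) := fun z => hsq.lift (𝟙 Z) (π ≫ σ z) (by rw [Category.assoc, hσe, Category.comp_id, Category.id_comp])
  have hτ : ∀ z, τ z ≫ Y.hom = 𝟙 Z := fun z => hsq.lift_fst _ _ _
  have hτq : ∀ z, τ z ≫ q = π ≫ σ z := fun z => hsq.lift_snd _ _ _
  have hτsq : ∀ z, IsPullback (τ z) π q (σ z) := fun z => by
    refine IsPullback.of_right ?_ (hτq z) hsq.flip.flip.flip.flip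
    rw [hτ, hσe]
    exact IsPullback.of_horiz_isIso ⟨by simp⟩
  haveI : ∀ z, IsOpenImmersion (τ z) := fun z => by
    have he : Etale Y.hom := Y.prop.2
    have : Etale (τ z) := MorphismProperty.of_postcomp @Etale (W' := @Etale) (τ z) Y.hom he
      (by rw [hτ]; infer_instance)
    have : Mono (τ z ≫ Y.hom) := by rw [hτ]; infer_instance
    have : Mono (τ z) := mono_of_mono (τ z) Y.hom
    exact IsOpenImmersion.of_flat_of_mono (τ z)
  refine isSplit_of_sections Y τ hτ (fun y => ⟨q y, ?_⟩) fun i j z w h => ?_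
  · have : y ∈ Set.range (τ (q y)).base := by
      rw [← (hτsq (q y)).isoPullback_hom_fst, Scheme.Hom.comp_base, TopCat.coe_comp,
        Set.range_comp, show Set.range (hτsq (q y)).isoPullback.hom.base = Set.univ from
          (hτsq (q y)).isoPullback.hom.homeomorph.surjective.range_eq, Set.image_univ,
        Scheme.Pullback.range_fst]
      exact ⟨default, hσz _⟩
    exact this
  · have h1 := congrArg q.base h
    rw [← Scheme.Hom.comp_apply, ← Scheme.Hom.comp_apply, hτq, hτq, Scheme.Hom.comp_apply,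
      Scheme.Hom.comp_apply, Subsingleton.elim (π z) default, Subsingleton.elim (π w) default, hσz, hσz] at h1
    exact h1

/-- If the Stein factor is étale near `s'` and the comparison map is an isomorphism there, the part of
the fibre over `s'` is a finite étale cover of the fibre of `f` which becomes split over an algebraic
closure. -/
theorem of_isIso_near {X X' S N : Scheme.{u}} (f : X ⟶ S) [IsProper f] (g : X' ⟶ X) [IsProper g]
    (b : X' ⟶ N) (m : N ⟶ S) [IsFinite m] (c : X' ⟶ pullback f m) (hc1 : c ≫ pullback.fst f m = g)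
    (hc2 : c ≫ pullback.snd f m = b) (s : S) (s' : N) (hs' : m s' = s)
    (C : (pullback (g ≫ f) (S.fromSpecResidueField s)).Opens)
    (hC : ∀ x : ↥(pullback (g ≫ f) (S.fromSpecResidueField s)),
      x ∈ C ↔ b.base ((pullback.fst (g ≫ f) (S.fromSpecResidueField s)).base x) = s')
    (U' : N.Opens) (hsU' : s' ∈ U') (het : Etale (U'.ι ≫ m))
    (hiso : IsIso (c ∣_ (pullback.snd f m ⁻¹ᵁ U'))) :
    (∀ x : C, (pullback.fst (g ≫ f) (S.fromSpecResidueField s)).base x.1 ∈ Pi1X.etaleLocus g) ∧
        ∃ (hF : IsFinite (C.ι ≫ pullback.map (g ≫ f) (S.fromSpecResidueField s) f (S.fromSpecResidueField s) g (𝟙 _) (𝟙 S)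
        (Category.comp_id _) ((Category.comp_id _).trans (Category.id_comp _).symm)))
          (hE : Etale (C.ι ≫ pullback.map (g ≫ f) (S.fromSpecResidueField s) f (S.fromSpecResidueField s) g (𝟙 _) (𝟙 S)
        (Category.comp_id _) ((Category.comp_id _).trans (Category.id_comp _).symm))),
          Pi1.IsSplit ((FEt.restrict (pullback.fst (pullback.snd f (S.fromSpecResidueField s))
            (Spec.map (CommRingCat.ofHom (algebraMap (S.residueField s) (AlgebraicClosure (S.residueField s))))))).obj
            (MorphismProperty.Over.mk ⊤ (C.ι ≫ pullback.map (g ≫ f) (S.fromSpecResidueField s) f (S.fromSpecResidueField s) g (𝟙 _) (𝟙 S)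
        (Category.comp_id _) ((Category.comp_id _).trans (Category.id_comp _).symm)) ⟨hF, hE⟩)) := by
  classical
  -- shrink `U'` so that it meets the fibre only in `s'`
  let F : Set N := m.base ⁻¹' {s} \ {s'}
  have hFfin : F.Finite := (m.finite_preimage_singleton s).subset Set.sdiff_subset
  have hFcl : s' ∉ closure F := by
    intro h
    rw [← hFfin.coe_toFinset, ← Finset.biUnion_singleton (s := hFfin.toFinset) (f := id) |>.trans (Finset.image_id)] at h
    rw [Finset.coe_biUnion, hFfin.toFinset.finite_toSet.closure_biUnion] at h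
    simp only [Set.mem_iUnion, id, Finset.coe_singleton] at h
    obtain ⟨z, hz, hzs⟩ := h
    have hzF : z ∈ F := hFfin.mem_toFinset.1 hz
    have hsp : (⟨z, hzF.1⟩ : m.base ⁻¹' {s}) ⤳ ⟨s', hs'⟩ :=
      IsEmbedding.subtypeVal.isInducing.specializes_iff.1 (specializes_iff_mem_closure.2 hzs)
    haveI := isDiscrete_iff_discreteTopology.1 (m.isDiscrete_preimage_singleton s)
    exact hzF.2 (congrArg Subtype.val hsp.eq)
  let U : N.Opens := U' ⊓ ⟨(closure F)ᶜ, isClosed_closure.isOpen_compl⟩
  have hU1 : ∀ z ∈ U, m z = s → z = s' := fun z hz hm =>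
    by_contra fun hne => hz.2 (subset_closure ⟨hm, hne⟩)
  have hUU' : U ≤ U' := inf_le_left
  haveI : Etale (U.ι ≫ m) := by
    rw [← N.homOfLE_ι hUU', Category.assoc]; infer_instance
  let V := pullback.snd f m ⁻¹ᵁ U
  haveI : IsIso (c ∣_ V) := by
    have hle : V ≤ pullback.snd f m ⁻¹ᵁ U' := fun z hz => hUU' hz
    have h2 := (isPullback_morphismRestrict c V).flip
    have hcle : c ⁻¹ᵁ V ≤ c ⁻¹ᵁ (pullback.snd f m ⁻¹ᵁ U') := fun z hz => hle hz
    have h3 : IsPullback (X'.homOfLE hcle) (c ∣_ V) (c ∣_ (pullback.snd f m ⁻¹ᵁ U')) ((pullback f m).homOfLE hle) := by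
      refine IsPullback.of_right ?_ ?_ (isPullback_morphismRestrict c (pullback.snd f m ⁻¹ᵁ U')).flip
      · simpa using h2
      · rw [← cancel_mono (Scheme.Opens.ι _)]; simp
    exact MorphismProperty.of_isPullback (P := MorphismProperty.isomorphisms Scheme.{u}) h3 hiso
  let W : X'.Opens := c ⁻¹ᵁ V
  have hW : ∀ x, x ∈ W ↔ b x ∈ U := fun x => by rw [← hc2, Scheme.Hom.comp_apply]; rfl
  let bU : W.toScheme ⟶ U.toScheme := (c ∣_ V) ≫ (pullback.snd f m ∣_ U)
  have hP : IsPullback (W.ι ≫ g) bU f (U.ι ≫ m) := by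
    have h0 := (isPullback_morphismRestrict (pullback.snd f m) U).flip.paste_horiz (IsPullback.of_hasPullback f m)
    have h1 : IsPullback (c ∣_ V) bU (pullback.snd f m ∣_ U) (𝟙 _) :=
      IsPullback.of_horiz_isIso ⟨by simp [bU]⟩
    have h2 := h1.paste_horiz h0
    rw [Category.id_comp] at h2
    convert! h2 using 1
    rw [← Category.assoc, morphismRestrict_ι, Category.assoc, hc1]
  haveI hgW : Etale (W.ι ≫ g) := MorphismProperty.of_isPullback hP.flip inferInstance
  let ιs := S.fromSpecResidueField s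
  let p' := pullback.fst (g ≫ f) ιs
  have hCW : C = p' ⁻¹ᵁ W := by
    refine Opens.ext (Set.ext fun x => (hC x).trans ?_)
    show _ ↔ p' x ∈ W
    rw [hW]
    refine ⟨fun h => h ▸ ⟨hsU', hFcl⟩, fun h => hU1 _ h ?_⟩
    have hx : f (g (p' x)) = s := by
      rw [← Scheme.Hom.comp_apply, ← Scheme.Hom.comp_apply, pullback.condition, Scheme.Hom.comp_apply]
      exact S.fromSpecResidueField_apply s _
    rw [← Scheme.Hom.comp_apply, ← hc2, Category.assoc, ← pullback.condition, reassoc_of% hc1]
    exact hx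
  subst hCW
  refine ⟨fun x => ?_, ?_⟩
  · exact le_sSup (show W ∈ {O : X'.Opens | Etale (O.ι ≫ g)} from hgW) x.2
  let mp := pullback.map (g ≫ f) ιs f ιs g (𝟙 _) (𝟙 S) (Category.comp_id _)
    ((Category.comp_id _).trans (Category.id_comp _).symm)
  let u := p' ∣_ W
  let h := (p' ⁻¹ᵁ W).ι ≫ mp
  have hmp : IsPullback p' mp g (pullback.fst f ιs) := by
    refine IsPullback.of_bot ?_ (pullback.lift_fst _ _ _).symm (IsPullback.of_hasPullback f ιs)
    rw [pullback.lift_snd, Category.comp_id]
    exact IsPullback.of_hasPullback (g ≫ f) ιs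
  have hsq : IsPullback u h (W.ι ≫ g) (pullback.fst f ιs) :=
    (isPullback_morphismRestrict p' W).paste_vert hmp
  haveI hE : Etale h := MorphismProperty.of_isPullback hsq inferInstance
  haveI : IsClosedImmersion (p' ⁻¹ᵁ W).ι := IsClosedImmersion.of_isPreimmersion _ (by
    rw [Scheme.Opens.range_ι]
    have : ((p' ⁻¹ᵁ W : (pullback (g ≫ f) ιs).Opens) : Set ↥(pullback (g ≫ f) ιs)) =
        (p' ≫ b).base ⁻¹' {s'} := Set.ext fun x => hC x
    rw [this]
    have hs'cl : IsClosed ((⋃ x ∈ ({s'} : Set N), closure {x})) := by simp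
    have hx : ∀ x : ↥(pullback (g ≫ f) ιs), m ((p' ≫ b) x) = s := fun x => by
      rw [← Scheme.Hom.comp_apply, Category.assoc, ← hc2, Category.assoc, ← pullback.condition,
        reassoc_of% hc1, pullback.condition, Scheme.Hom.comp_apply]
      exact S.fromSpecResidueField_apply s _
    have : (p' ≫ b).base ⁻¹' {s'} = (p' ≫ b).base ⁻¹' closure {s'} := by
      refine Set.ext fun x => ⟨fun hx => subset_closure hx, fun hx' => ?_⟩
      have hsp : (⟨s', hs'⟩ : m.base ⁻¹' {s}) ⤳ ⟨(p' ≫ b) x, hx x⟩ :=
        IsEmbedding.subtypeVal.isInducing.specializes_iff.1 (specializes_iff_mem_closure.2 hx')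
      haveI := isDiscrete_iff_discreteTopology.1 (m.isDiscrete_preimage_singleton s)
      exact (congrArg Subtype.val hsp.eq).symm
    rw [this]
    exact isClosed_closure.preimage (p' ≫ b).continuous)
  haveI : IsProper mp := MorphismProperty.of_isPullback hmp inferInstance
  haveI : IsProper h := inferInstanceAs (IsProper (_ ≫ _))
  haveI : LocallyQuasiFinite h := Groth.Agent.Lib.Henselian.DescendSection.locallyQuasiFinite_of_etale h
  haveI hF : IsFinite h := IsFinite.of_isProper_of_locallyQuasiFinite h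
  refine ⟨hF, hE, ?_⟩
  let β : Spec (CommRingCat.of (AlgebraicClosure (S.residueField s))) ⟶ Spec (S.residueField s) :=
    Spec.map (CommRingCat.ofHom (algebraMap (S.residueField s) (AlgebraicClosure (S.residueField s))))
  let pr := pullback.fst (pullback.snd f ιs) β
  let e := pullback.snd (U.ι ≫ m) (β ≫ ιs)
  have hqc : QuasiCompact e := by
    haveI : Finite ↥(pullback (U.ι ≫ m) ιs) := by
      haveI : Subsingleton ↥(pullback (U.ι ≫ m) ιs) := ⟨fun a a' => by
        apply (pullback.fst (U.ι ≫ m) ιs).isEmbedding.injective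
        have key : ∀ a : ↥(pullback (U.ι ≫ m) ιs), (pullback.fst (U.ι ≫ m) ιs a).1 = s' := fun a =>
          hU1 _ (pullback.fst (U.ι ≫ m) ιs a).2 (by
            show m (U.ι (pullback.fst (U.ι ≫ m) ιs a)) = s
            rw [← Scheme.Hom.comp_apply, ← Scheme.Hom.comp_apply, pullback.condition, Scheme.Hom.comp_apply]
            exact S.fromSpecResidueField_apply s _)
        exact Subtype.ext ((key a).trans (key a').symm)⟩
      infer_instance
    haveI : CompactSpace ↥(pullback (U.ι ≫ m) ιs) := Finite.compactSpace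
    haveI : QuasiCompact (pullback.snd (U.ι ≫ m) ιs) :=
      (quasiCompact_iff_compactSpace _).2 inferInstance
    have he : (pullbackLeftPullbackSndIso (U.ι ≫ m) ιs β).inv ≫ pullback.snd _ β = e := by
      rw [Iso.inv_comp_eq]; simp [e]
    rw [← he]
    infer_instance
  let Y := (FEt.restrict pr).obj (MorphismProperty.Over.mk ⊤ h ⟨hF, hE⟩)
  have hY : IsPullback (pullback.snd h pr) (pullback.fst h pr ≫ u ≫ bU) (pr ≫ pullback.fst f ιs ≫ f) (U.ι ≫ m) := by
    have h1 := ((IsPullback.of_hasPullback h pr).paste_horiz hsq).paste_horiz hP.flip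
    simpa using h1.flip
  have hcond : pr ≫ pullback.fst f ιs ≫ f = pullback.snd (pullback.snd f ιs) β ≫ β ≫ ιs := by
    rw [pullback.condition, pullback.condition_assoc]
  have hY' : IsPullback (pullback.snd h pr)
      (pullback.lift (pullback.fst h pr ≫ u ≫ bU) (pullback.snd h pr ≫ pullback.snd (pullback.snd f ιs) β)
        (by simp only [Category.assoc, ← hcond]; simpa using hY.w.symm))
      (pullback.snd (pullback.snd f ιs) β) e := by
    refine (IsPullback.of_right ?_ (pullback.lift_snd _ _ _)
      (IsPullback.of_hasPullback (U.ι ≫ m) (β ≫ ιs))).flip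
    rw [pullback.lift_fst, ← hcond]
    exact hY.flip
  exact isSplit_of_isPullback Y _ e _ hY'

end Groth.Agent.H34.Comparison
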