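import Groth.Prelude.Def_Pi1
import Groth.Prelude.Def_Pi1X
import Groth.Agent.H34.Stein.HenselianEtale
import Groth.Agent.H34.Comparison.Descent
import Groth.Agent.Lib.Henselian.DescendSection
import Mathlib.AlgebraicGeometry.Morphisms.FlatRank

/-!
# Auxiliary lemmas for the converse comparison with the Stein factor
-/

set_option autoImplicit false
universe u

open CategoryTheory CategoryTheory.Limits AlgebraicGeometry TopologicalSpace Topology

namespace Groth.Agent.H34.Comparison

/-- A connected open and closed piece of a split cover of a connected scheme maps isomorphically. -/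
theorem isIso_of_isSplit {Z D : Scheme.{u}} [ConnectedSpace Z] [ConnectedSpace D] (Y : FEt.Cat Z)
    (hY : Pi1.IsSplit Y) (j : D ⟶ Y.left) [IsOpenImmersion j] (hj : IsClosed (Set.range j.base)) :
    IsIso (j ≫ Y.hom) := by
  obtain ⟨ι, _, e, he⟩ := hY
  let j' := j ≫ e.hom
  have hj'o : IsOpen (Set.range j'.base) := j'.isOpenEmbedding.isOpen_range
  have hj'c : IsClosed (Set.range j'.base) := by
    have : Set.range j'.base = e.hom.homeomorph '' Set.range j.base := by
      rw [← Set.range_comp]; rfl
    rw [this]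
    exact e.hom.homeomorph.isClosedMap _ hj
  let F : ι → Scheme.{u} := fun _ => Z
  let U : ι → Set ↥(∐ F) := fun i => Set.range (Sigma.ι F i).base
  have hUo : ∀ i, IsOpen (U i) := fun i => (Sigma.ι F i).isOpenEmbedding.isOpen_range
  have hcov : ∀ x : ↥(∐ F), ∃ i, x ∈ U i := fun x => by
    obtain ⟨i, y, hy⟩ := (sigmaOpenCover F).exists_eq x
    exact ⟨i, y, hy⟩
  have hUc : ∀ i, IsClosed (U i) := fun i => by
    rw [← isOpen_compl_iff]
    have : (U i)ᶜ = ⋃ k ∈ {k | k ≠ i}, U k := by
      ext x
      simp only [Set.mem_compl_iff, Set.mem_iUnion, Set.mem_setOf_eq, exists_prop]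
      refine ⟨fun hx => ?_, fun ⟨k, hk, hx⟩ hxi => ?_⟩
      · obtain ⟨k, hk⟩ := hcov x
        exact ⟨k, fun h => hx (h ▸ hk), hk⟩
      · exact Set.disjoint_left.1 (disjoint_opensRange_sigmaι F k i hk |> fun h => by
          simpa [← TopologicalSpace.Opens.coe_disjoint] using h) hx hxi
    rw [this]
    exact isOpen_biUnion fun k _ => hUo k
  obtain ⟨d⟩ : Nonempty D := inferInstance
  obtain ⟨i, hi⟩ := hcov (j' d)
  have heq : Set.range j'.base = U i :=
    Set.Subset.antisymm
      ((isPreconnected_range j'.continuous).subset_isClopen ⟨hUc i, hUo i⟩ ⟨_, ⟨d, rfl⟩, hi⟩)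
      ((isPreconnected_range (Sigma.ι F i).continuous).subset_isClopen ⟨hj'c, hj'o⟩ ⟨_, hi, ⟨d, rfl⟩⟩)
  let l := IsOpenImmersion.lift (Sigma.ι F i) j' heq.le
  have hl : l ≫ Sigma.ι F i = j' := IsOpenImmersion.lift_fac _ _ _
  haveI : IsOpenImmersion (l ≫ Sigma.ι F i) := by rw [hl]; infer_instance
  haveI : IsOpenImmersion l := IsOpenImmersion.of_comp l (Sigma.ι F i)
  haveI : IsIso l := isIso_of_isOpenImmersion_of_opensRange_eq_top _ (eq_top_iff.2 fun z _ => by
    obtain ⟨x, hx⟩ : Sigma.ι F i z ∈ Set.range j'.base := heq ▸ ⟨z, rfl⟩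
    rw [← hl] at hx
    exact ⟨x, (Sigma.ι F i).isOpenEmbedding.injective hx⟩)
  have : j ≫ Y.hom = l := by
    calc j ≫ Y.hom = j' ≫ e.inv ≫ Y.hom := by simp [j']
      _ = l ≫ Sigma.ι F i ≫ e.inv ≫ Y.hom := by rw [← hl]; simp
      _ = l := by rw [he i]; simp [F]
  rw [this]
  infer_instance

/-- An open set containing the closed fibre of a closed map to a local scheme is everything. -/
theorem eq_top_of_closedFibre {A : Type u} [CommRing A] [IsLocalRing A] {X : Scheme.{u}}
    (a : X ⟶ Spec (CommRingCat.of A)) [UniversallyClosed a] (O : X.Opens)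
    (h : ∀ x, a x = IsLocalRing.closedPoint A → x ∈ O) : O = ⊤ := by
  refine eq_top_iff.2 fun x _ => by_contra fun hx => ?_
  obtain ⟨z, hz, hz'⟩ : IsLocalRing.closedPoint A ∈ a.base '' (O : Set X)ᶜ :=
    (IsLocalRing.specializes_closedPoint (a x)).mem_closed (a.isClosedMap _ O.2.isClosed_compl)
      ⟨x, hx, rfl⟩
  exact hz (h z hz')

/-- Over a henselian local ring each point of the closed fibre of a finite scheme is the only one of
that fibre in some open and closed subscheme. -/
theorem exists_clopen_nhd {A : Type u} [CommRing A] [HenselianLocalRing A] {N : Scheme.{u}}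
    (m : N ⟶ Spec (CommRingCat.of A)) [IsFinite m] (t : N) (ht : m t = IsLocalRing.closedPoint A) :
    ∃ W : N.Opens, IsClosed (W : Set N) ∧ t ∈ W ∧
      ∀ y ∈ W, m y = IsLocalRing.closedPoint A → y = t := by
  let V : Set (PrimeSpectrum A) := PrimeSpectrum.zeroLocus (IsLocalRing.maximalIdeal A : Set A)
  have hV : ∀ z : Spec (CommRingCat.of A), z ∈ V ↔ z = IsLocalRing.closedPoint A := fun z => by
    refine ⟨fun h => PrimeSpectrum.ext ?_, ?_⟩
    · exact ((IsLocalRing.maximalIdeal.isMaximal A).eq_of_le z.2.ne_top h).symm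
    · rintro rfl; exact Set.Subset.refl _
  haveI : HenselianRing A (IsLocalRing.maximalIdeal A) :=
    Groth.Agent.Lib.Henselian.LocalRing.henselianLocalRing_iff_henselianRing.mp ‹_›
  let S : Set N := m.base ⁻¹' V
  have hdisc : DiscreteTopology S := by
    have hSeq : S = m.base ⁻¹' {IsLocalRing.closedPoint A} := Set.ext fun z => hV (m z)
    rw [hSeq]
    exact isDiscrete_iff_discreteTopology.mp (m.isDiscrete_preimage_singleton _)
  obtain ⟨U, ⟨hU, hUx⟩, -⟩ := Groth.Agent.Lib.Henselian.ProperClopen.lifts_of_proper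
    (IsLocalRing.maximalIdeal A) m (P := S) (j := Subtype.val) IsEmbedding.subtypeVal
    Subtype.range_val {⟨t, (hV _).2 ht⟩} (isClopen_discrete _)
  refine ⟨⟨U, hU.2⟩, hU.1, (Set.ext_iff.1 hUx ⟨t, (hV _).2 ht⟩).2 rfl, fun y hy hm => ?_⟩
  exact congrArg Subtype.val ((Set.ext_iff.1 hUx ⟨y, (hV _).2 hm⟩).1 hy)

/-- The closed fibre of a morphism to a strictly henselian local scheme, pulled back to a field, is
connected as soon as it is connected. -/
theorem connectedSpace_pullback_closed {A : Type u} [CommRing A] [IsLocalRing A]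
    [IsSepClosed (IsLocalRing.ResidueField A)] {X : Scheme.{u}} (a : X ⟶ Spec (CommRingCat.of A))
    (hconn : _root_.IsConnected (a.base ⁻¹' {IsLocalRing.closedPoint A})) {K : Type u} [Field K]
    (w : Spec (CommRingCat.of K) ⟶ Spec (CommRingCat.of A))
    (hw : w default = IsLocalRing.closedPoint A) : ConnectedSpace ↥(pullback a w) := by
  let s : Spec (CommRingCat.of A) := IsLocalRing.closedPoint A
  haveI : IsSepClosed (IsLocalRing.ResidueField ((Spec (CommRingCat.of A)).presheaf.stalk s)) :=
    let e : IsLocalRing.ResidueField A ≃+* (IsLocalRing.maximalIdeal A).ResidueField :=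
      RingEquiv.ofBijective
        (algebraMap (A ⧸ IsLocalRing.maximalIdeal A) (IsLocalRing.maximalIdeal A).ResidueField :
          IsLocalRing.ResidueField A →+* (IsLocalRing.maximalIdeal A).ResidueField)
        (Ideal.bijective_algebraMap_quotient_residueField _)
    Groth.Agent.Lib.Henselian.StrictHenselization.isSepClosed_of_ringEquiv
      (e.trans (Scheme.Spec.residueFieldIso (CommRingCat.of A) s).commRingCatIsoToRingEquiv.symm)
  haveI := Subtype.connectedSpace hconn
  haveI : ConnectedSpace ↥(a.fiber s) := (a.fiberHomeo s).connectedSpace_iff.mpr inferInstance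
  haveI : GeometricallyConnected (a.fiberToSpecResidueField s) :=
    Stein.geometricallyConnected_of_isSepClosed (a.fiberToSpecResidueField s)
  have hw' : w (IsLocalRing.closedPoint K) = s := (congrArg w.base (Subsingleton.elim _ _)).trans hw
  obtain ⟨ψ, hψ⟩ : ∃ ψ : (Spec (CommRingCat.of A)).residueField s ⟶ CommRingCat.of K,
      Spec.map ψ ≫ (Spec (CommRingCat.of A)).fromSpecResidueField s = w := by
    rw [← hw']
    exact ⟨_, Scheme.descResidueField_stalkClosedPointTo_fromSpecResidueField K _ w⟩
  subst hψ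
  haveI : ConnectedSpace ↥(pullback (a.fiberToSpecResidueField s) (Spec.map ψ)) :=
    GeometricallyConnected.geometrically_connectedSpace _ _ _ (.of_hasPullback _ _)
  exact (pullbackLeftPullbackSndIso a ((Spec (CommRingCat.of A)).fromSpecResidueField s)
    (Spec.map ψ)).hom.homeomorph.connectedSpace_iff.mp ‹_›

end Groth.Agent.H34.Comparison
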